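import Groth.Agent.Lib.UnrMono.NormalizationIso
import Groth.Agent.Lib.DeltaBC4.GeomReg
import Groth.Agent.Lib.NormFib.Normal
import Groth.Agent.Lib.CycP1.Graph
import Groth.Agent.Lib.Chow.Embed
import Groth.Agent.Lib.Chow.Projective
import Groth.Agent.Lib.Ample.RelAmple
import Groth.Agent.Lib.Ample.ProjAmple
import Groth.Agent.Lib.Ample.QuasiProj
import Groth.Agent.Lib.ProjSp.OverAffine
import Groth.Agent.Lib.Euler.AmpleExists

/-!
# Normal projective completions of affine varieties
-/

set_option autoImplicit false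
set_option linter.all false
set_option backward.isDefEq.respectTransparency false

universe u

open CategoryTheory CategoryTheory.Limits AlgebraicGeometry TopologicalSpace

noncomputable section

namespace GrothLib.NormCompl5

open GrothLib.NormFib

/-- The normalization is an isomorphism over a normal affine open. -/
theorem isIso_normalizationι_restrict {X : Scheme.{u}} [IsIntegral X]
    [QuasiCompact (X.fromSpecStalk (genericPoint X))] [QuasiSeparated (X.fromSpecStalk (genericPoint X))]
    {U : X.Opens} (hU : IsAffineOpen U) [Nonempty U]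
    (hV : ∀ x ∈ U, IsIntegrallyClosed (X.presheaf.stalk x)) : IsIso (Curv2.normalizationι X ∣_ U) := by
  refine (isIso_morphismRestrict_iff_isIso_app _ hU).mpr ?_
  haveI : IsIntegrallyClosed Γ(X, U) := by
    refine IsIntegrallyClosed.of_localization_maximal fun p _ _ => ?_
    let z := hU.fromSpec ⟨p, inferInstance⟩
    have hzU : z ∈ U := hU.range_fromSpec.le ⟨⟨p, inferInstance⟩, rfl⟩
    let _ := TopCat.Presheaf.algebra_section_stalk X.presheaf (⟨z, hzU⟩ : U)
    have := hU.isLocalization_stalk' ⟨p, inferInstance⟩ hzU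
    haveI := hV z hzU
    exact IsIntegrallyClosed.of_equiv
      (IsLocalization.algEquiv p.primeCompl (X.presheaf.stalk z) (Localization.AtPrime p)).toRingEquiv
  let _ := chartAlgebra (X := X) U
  obtain ⟨_, htow, hic⟩ := exists_chart hU
  haveI := functionField_isFractionRing_of_isAffineOpen X U hU
  have hinj := IsIntegralClosure.algebraMap_injective Γ(Curv2.normalization X, pre U) Γ(X, U) X.functionField
  refine (ConcreteCategory.isIso_iff_bijective _).mpr ⟨fun a b hab => ?_, fun w => ?_⟩
  · refine IsFractionRing.injective Γ(X, U) X.functionField ?_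
    rw [IsScalarTower.algebraMap_apply Γ(X, U) Γ(Curv2.normalization X, pre U) X.functionField a,
      IsScalarTower.algebraMap_apply Γ(X, U) Γ(Curv2.normalization X, pre U) X.functionField b]
    exact congrArg _ hab
  · obtain ⟨a, ha⟩ := IsIntegrallyClosed.isIntegral_iff.1
      ((IsIntegralClosure.isIntegral Γ(X, U) X.functionField w).map
        (IsScalarTower.toAlgHom Γ(X, U) _ X.functionField))
    refine ⟨a, hinj ?_⟩
    exact (IsScalarTower.algebraMap_apply Γ(X, U) Γ(Curv2.normalization X, pre U) X.functionField a).symm.trans ha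

/-- A scheme finite over a closed subscheme of projective space is one too. -/
theorem exists_closedImmersion_of_finite {k : Type u} [Field k] {Y Z : Scheme.{u}} {N : ℕ}
    (c : Y ⟶ CohB1.ProjSpace N k) [IsClosedImmersion c] (ν : Z ⟶ Y) [IsFinite ν] :
    ∃ (n : ℕ) (i : Z ⟶ CohB1.ProjSpace n k), IsClosedImmersion i ∧
      i ≫ CohB1.ProjSpace.toSpec n k = ν ≫ c ≫ CohB1.ProjSpace.toSpec N k := by
  haveI := GrothLib.Chow.isProper_toSpec N k
  let f := ν ≫ c ≫ CohB1.ProjSpace.toSpec N k
  haveI : IsProper f := inferInstanceAs (IsProper (ν ≫ c ≫ CohB1.ProjSpace.toSpec N k))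
  haveI : IsAffineHom (ν ≫ c) := inferInstance
  have hA := Ample.isAmple_pullback_of_isAffineHom (ν ≫ c) (Ample.isAmple_twistProjSpace_one N k)
  obtain ⟨n, i, hi, hif⟩ := Ample.exists_immersion_of_isAmple f hA
  haveI := hi
  haveI := Chow.isProper_toBase n (Spec (CommRingCat.of k))
  haveI : IsProper (i ≫ CohB1.ProjSpaceOver.toBase n (Spec (CommRingCat.of k))) := hif ▸ inferInstance
  haveI : IsProper i := IsProper.of_comp i (CohB1.ProjSpaceOver.toBase n _)
  haveI := Chow.isClosedImmersion_of_isImmersion_of_isProper i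
  haveI := Ample.ProjMap.isClosedImmersion_toProjSpace n k
  refine ⟨n, i ≫ Ample.ProjMap.toProjSpace n k, inferInstance, ?_⟩
  rw [Category.assoc, Ample.ProjMap.toProjSpace_toSpec]
  exact hif

theorem exists_openImmersion_into_projective_integral (k : Type u) [Field k] (X : Scheme.{u})
    (f : X ⟶ Spec (CommRingCat.of k)) [IsAffine X] [IsIntegral X] [LocallyOfFiniteType f] :
    ∃ (Y : Scheme.{u}) (g : Y ⟶ Spec (CommRingCat.of k)) (n : ℕ) (c : Y ⟶ CohB1.ProjSpace n k)
      (j : X ⟶ Y), AlgebraicGeometry.IsIntegral Y ∧ IsClosedImmersion c ∧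
      c ≫ CohB1.ProjSpace.toSpec n k = g ∧ IsOpenImmersion j ∧ j ≫ g = f ∧
      (Pi1.IsNormalScheme X → Pi1.IsNormalScheme Y) := by
  obtain ⟨N, i, hi, hiq, hib⟩ := GrothLib.Chow.exists_immersion f
  haveI := hi
  haveI := hiq
  haveI := Ample.ProjMap.isClosedImmersion_toProjSpace N k
  haveI := GrothLib.CycP1.isIntegral_image i
  let Y0 := i.image
  let c0 : Y0 ⟶ CohB1.ProjSpace N k := i.imageι ≫ Ample.ProjMap.toProjSpace N k
  let j0 : X ⟶ Y0 := i.toImage
  let g0 := c0 ≫ CohB1.ProjSpace.toSpec N k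
  haveI : IsClosedImmersion c0 := inferInstanceAs (IsClosedImmersion (i.imageι ≫ _))
  haveI : IsOpenImmersion j0 := inferInstanceAs (IsOpenImmersion i.toImage)
  have hj0 : j0 ≫ g0 = f := by
    show i.toImage ≫ (i.imageι ≫ _) ≫ _ = f
    rw [Category.assoc, Scheme.Hom.toImage_imageι_assoc, Ample.ProjMap.toProjSpace_toSpec, hib]
  by_cases hX : Pi1.IsNormalScheme X
  swap
  · exact ⟨Y0, g0, N, c0, j0, inferInstance, inferInstance, rfl, inferInstance, hj0, fun h => absurd h hX⟩
  letI : Y0.Over (Spec (CommRingCat.of k)) := ⟨g0⟩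
  haveI := GrothLib.Chow.isProper_toSpec N k
  haveI : IsProper (Y0 ↘ Spec (CommRingCat.of k)) := inferInstanceAs (IsProper (c0 ≫ _))
  haveI := Euler.isNoetherian_of_proper (X := Y0) k
  haveI : QuasiCompact (Y0.fromSpecStalk (genericPoint Y0)) := inferInstance
  haveI : QuasiSeparated (Y0.fromSpecStalk (genericPoint Y0)) := inferInstance
  haveI := GrothLib.DeltaBC4.isFinite_normalizationι k Y0
  let ν := Curv2.normalizationι Y0
  let V : Y0.Opens := j0.opensRange
  haveI : Nonempty X := inferInstance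
  haveI : Nonempty V := ⟨⟨j0 (Classical.arbitrary X), ⟨_, rfl⟩⟩⟩
  haveI : IsIso (ν ∣_ V) := by
    refine isIso_normalizationι_restrict (isAffineOpen_opensRange j0) ?_
    rintro x ⟨y, rfl⟩
    haveI := (hX y).2
    exact IsIntegrallyClosed.of_equiv (asIso (j0.stalkMap y)).commRingCatIsoToRingEquiv.symm
  let j : X ⟶ Curv2.normalization Y0 := j0.isoOpensRange.hom ≫ inv (ν ∣_ V) ≫ (ν ⁻¹ᵁ V).ι
  have hj : j ≫ ν = j0 := by
    show (j0.isoOpensRange.hom ≫ inv (ν ∣_ V) ≫ (ν ⁻¹ᵁ V).ι) ≫ ν = j0
    rw [Category.assoc, Category.assoc, ← morphismRestrict_ι, IsIso.inv_hom_id_assoc]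
    exact Scheme.Hom.isoOpensRange_hom_ι j0
  obtain ⟨n, c, hc, hcg⟩ := exists_closedImmersion_of_finite c0 ν
  refine ⟨_, ν ≫ g0, n, c, j, inferInstance, hc, hcg, inferInstance, ?_, fun _ => NormFib.isNormalScheme_normalization⟩
  rw [← Category.assoc, hj, hj0]

end GrothLib.NormCompl5
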